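import Cfsg.Agent.H681.Van.TitsFive
import Cfsg.Agent.H743.VanJ4
import Cfsg.Agent.H687.HeVan
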